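import Mathlib
import Cfsg.Agent.KCl.So

/-! The test applied to the solutions of the class equation. -/

set_option autoImplicit false

namespace CF.KCl

/-- Number of classes (or zero), order, one or two primes with automizer and centralizer,
a prime power, a centralizer order, a bound for the degrees. -/
structure En where
  (K g p e c r e' c' q a cq R : ℕ)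

def PR : List ℕ := [2, 3, 5, 7, 11, 13, 17, 19]

def tb : List En :=
  [⟨0, 60, 3, 2, 4, 0, 0, 0, 2, 0, 0, 8⟩, ⟨0, 168, 3, 2, 4, 0, 0, 0, 2, 0, 0, 13⟩,
   ⟨11, 504, 7, 2, 1, 0, 0, 0, 2, 0, 0, 23⟩, ⟨0, 1200, 3, 2, 2, 0, 0, 0, 2, 0, 0, 35⟩,
   ⟨0, 1260, 7, 6, 2, 0, 0, 0, 2, 0, 0, 36⟩, ⟨0, 1344, 7, 3, 1, 0, 0, 0, 2, 0, 0, 37⟩,
   ⟨0, 1404, 13, 4, 1, 0, 0, 0, 2, 0, 0, 38⟩, ⟨0, 1440, 5, 4, 2, 0, 0, 0, 2, 0, 0, 38⟩,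
   ⟨0, 1512, 7, 6, 1, 0, 0, 0, 2, 0, 0, 39⟩, ⟨0, 1920, 3, 2, 2, 0, 0, 0, 2, 0, 0, 44⟩,
   ⟨0, 2160, 5, 2, 1, 0, 0, 0, 2, 0, 0, 47⟩, ⟨0, 2352, 3, 2, 2, 0, 0, 0, 2, 0, 0, 49⟩,
   ⟨0, 3240, 5, 4, 2, 0, 0, 0, 2, 0, 0, 57⟩, ⟨0, 4032, 7, 2, 1, 0, 0, 0, 2, 0, 0, 64⟩,
   ⟨0, 4320, 5, 4, 1, 0, 0, 0, 2, 0, 0, 66⟩, ⟨0, 5376, 7, 6, 2, 0, 0, 0, 2, 0, 0, 74⟩,
   ⟨0, 5760, 5, 2, 1, 0, 0, 0, 2, 0, 0, 76⟩, ⟨0, 6048, 7, 3, 1, 0, 0, 0, 2, 5, 96, 78⟩,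
   ⟨0, 6804, 7, 6, 1, 0, 0, 0, 2, 0, 0, 83⟩, ⟨11, 7920, 11, 5, 1, 5, 4, 1, 2, 0, 0, 89⟩,
   ⟨0, 9408, 3, 2, 2, 0, 0, 0, 2, 0, 0, 97⟩, ⟨0, 9720, 5, 4, 1, 0, 0, 0, 2, 0, 0, 99⟩,
   ⟨0, 11520, 5, 4, 1, 0, 0, 0, 2, 0, 0, 108⟩, ⟨0, 12096, 7, 6, 1, 0, 0, 0, 2, 0, 0, 110⟩,
   ⟨0, 12960, 5, 2, 1, 0, 0, 0, 2, 0, 0, 114⟩, ⟨0, 13440, 7, 2, 1, 0, 0, 0, 2, 0, 0, 116⟩,
   ⟨0, 14520, 5, 2, 2, 0, 0, 0, 2, 0, 0, 121⟩, ⟨0, 15600, 13, 4, 1, 0, 0, 0, 2, 0, 0, 125⟩,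
   ⟨0, 16320, 17, 8, 1, 0, 0, 0, 2, 0, 0, 128⟩, ⟨0, 18144, 7, 2, 1, 0, 0, 0, 2, 0, 0, 135⟩,
   ⟨9, 20160, 7, 3, 1, 5, 2, 1, 2, 0, 0, 142⟩, ⟨11, 20160, 5, 2, 1, 7, 3, 1, 3, 2, 9, 142⟩,
   ⟨0, 21504, 7, 6, 1, 0, 0, 0, 2, 0, 0, 147⟩, ⟨0, 25920, 5, 4, 1, 0, 0, 0, 3, 4, 324, 161⟩,
   ⟨10, 29120, 13, 4, 1, 7, 2, 1, 2, 0, 0, 171⟩, ⟨0, 29160, 5, 2, 1, 0, 0, 0, 2, 0, 0, 171⟩,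
   ⟨0, 30720, 3, 2, 2, 0, 0, 0, 2, 0, 0, 176⟩, ⟨0, 34560, 5, 2, 1, 0, 0, 0, 2, 0, 0, 186⟩,
   ⟨0, 40320, 7, 6, 1, 0, 0, 0, 3, 2, 18, 201⟩, ⟨0, 42120, 13, 3, 1, 5, 4, 1, 2, 0, 0, 206⟩,
   ⟨0, 43320, 3, 2, 2, 0, 0, 0, 2, 0, 0, 209⟩, ⟨0, 48384, 7, 3, 1, 0, 0, 0, 2, 0, 0, 220⟩,
   ⟨0, 56784, 7, 6, 1, 3, 2, 2, 2, 0, 0, 239⟩, ⟨0, 58320, 5, 4, 1, 0, 0, 0, 2, 0, 0, 242⟩,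
   ⟨0, 75600, 7, 6, 1, 0, 0, 0, 5, 2, 25, 275⟩, ⟨0, 86016, 7, 3, 1, 0, 0, 0, 2, 0, 0, 294⟩,
   ⟨0, 92160, 5, 2, 1, 0, 0, 0, 2, 0, 0, 304⟩, ⟨0, 96768, 7, 6, 1, 0, 0, 0, 2, 0, 0, 312⟩,
   ⟨0, 115248, 3, 2, 2, 0, 0, 0, 2, 0, 0, 340⟩, ⟨0, 174960, 5, 2, 1, 0, 0, 0, 2, 0, 0, 419⟩,
   ⟨0, 184320, 5, 4, 1, 0, 0, 0, 2, 0, 0, 430⟩, ⟨0, 258048, 7, 2, 1, 0, 0, 0, 2, 0, 0, 508⟩,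
   ⟨0, 349920, 5, 4, 1, 0, 0, 0, 2, 0, 0, 592⟩, ⟨0, 387072, 7, 3, 1, 0, 0, 0, 2, 0, 0, 623⟩,
   ⟨0, 491520, 3, 2, 2, 0, 0, 0, 2, 0, 0, 702⟩, ⟨0, 774144, 7, 6, 1, 0, 0, 0, 2, 0, 0, 880⟩,
   ⟨0, 1049760, 5, 2, 1, 0, 0, 0, 2, 0, 0, 1025⟩, ⟨0, 3096576, 7, 3, 1, 0, 0, 0, 2, 0, 0, 1760⟩,
   ⟨0, 3870720, 7, 2, 1, 0, 0, 0, 2, 0, 0, 1968⟩, ⟨0, 4177920, 17, 8, 1, 0, 0, 0, 2, 0, 0, 2044⟩,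
   ⟨0, 85030560, 5, 2, 1, 0, 0, 0, 2, 0, 0, 9222⟩]

def has (cl : List It) (p e c : ℕ) : Bool :=
  cl.any fun j => j.ρ == p && j.c == p * c && (p == 3 && e == 2 || 5 ≤ p && j.h == e)

def hasc (cl : List It) (p c : ℕ) : Bool := cl.any fun j => j.ρ == p && j.c == c

def En.app (K g : ℕ) (cl : List It) (t : En) : Bool :=
  t.g == g && (t.K == 0 || t.K == K) && has cl t.p t.e t.c && (t.r == 0 || has cl t.r t.e' t.c') &&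
    (t.a == 0 || hasc cl t.q t.cq &&
      (cl.map fun j => if j.ρ = t.q then wt g j else 0).sum == g / t.cq)

def ti (g : ℕ) (cl : List It) : Bool :=
  (cl.all fun j => j.ρ != 3 || j.c ∈ [9, 54, 81]) && hasc cl 3 9 && hasc cl 3 54 &&
    (cl.map fun j => if j.ρ = 3 ∧ 27 ∣ j.c then wt g j else 0).sum % 26 != 0

def lf (K g : ℕ) (cl : List It) : Bool :=
  g ≤ 1092 && g ∉ [60, 168, 504, 660, 1092] || (cl.all fun j => j.ρ ∈ PR) &&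
    (g ∉ [60, 168, 360, 504, 2448, 20160, 29120, 32537600] || (K, g) ∈ [(10, 20160), (11, 29120)]) ||
  tb.any (En.app K g cl) || (K, g) ∈ [(9, 504), (9, 1092), (10, 7920), (11, 2448)] ||
  g ∈ [2520, 129960, 46915560] || g == 25920 && ti g cl

def leaf (K g : ℕ) (cl : LI) : Bool := lf K g cl.toL

end CF.KCl
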