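import Cfsg.Agent.KCl.Lv
import Cfsg.Agent.KCl.Lt
import Cfsg.Agent.KCl.Sk
import Cfsg.Agent.S2497
import Cfsg.Agent.S3280
import Cfsg.Agent.S2480
import Cfsg.Agent.S4198
import Cfsg.Agent.S0496
import Cfsg.Agent.Char.KGV

/-! Simple groups with nine, ten or eleven conjugacy classes. -/

set_option autoImplicit false

namespace CF.KCl

open Subgroup Cfsg CF.Small CF.Small.Sv CF.Char
open scoped MatrixGroups

variable {G : Type*} [Group G] [Finite G]

omit [Finite G] in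
theorem k_psl {F : Type*} [Field F] [Fintype F] (e : G ≃* PSL(2, F))
    (h : Fintype.card F = 7 ∨ Fintype.card F = 9) : Nat.card (ConjClasses G) ≤ 7 := by
  have := (Cfsg.Agent.S2480.result (F := F) 2 le_rfl).2
  rw [← card_conjClasses_congr e] at this
  rcases h with h | h <;> rw [h] at this <;> norm_num at this <;> omega

omit [Finite G] in
theorem k_six (e : G ≃* alternatingGroup (Fin 6)) : Nat.card (ConjClasses G) ≤ 7 := by
  haveI := Fintype.ofFinite (GaloisField 3 2)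
  have h : Nat.card (GaloisField 3 2) = 9 := GaloisField.card 3 2 two_ne_zero
  obtain ⟨f⟩ := Classical.PSL2_nine_equiv h
  exact k_psl (e.trans f.symm) (Or.inr (Nat.card_eq_fintype_card.symm.trans h))

variable [IsSimpleGroup G] (hG : ¬ IsMulCommutative G)
include hG

theorem eppo (h : ∀ j ∈ its G, j.ρ ∈ PR) : Nat.card G ∈ [60, 168, 360, 504, 2448, 32537600] ∨
    (Nat.card G = 20160 ∧ ∃ (F : Type) (_ : Field F) (_ : Fintype F), Fintype.card F = 4 ∧
      Nonempty (G ≃* PSL(3, F))) ∨ Nat.card G = 29120 ∧ ∃ (F : Type) (_ : Field F) (_ : Fintype F),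
        Fintype.card F = 8 ∧ Nonempty (G ≃* Cfsg.Lie.Sz F 4) := by
  rcases Cfsg.Agent.S2497.result hG fun g hg => by
    have hp := prime_PR _ (h _ (item_mem hg))
    obtain ⟨k, hk, e⟩ := eq_pow_of_rad hp (orderOf_pos g).ne' rfl
    exact e ▸ hp.prime.isPrimePow.pow hk with ⟨⟨e⟩⟩ | ⟨F, _, _, h1, ⟨e⟩⟩ | ⟨F, _, _, h1, ⟨e⟩⟩ |
      ⟨F, _, _, ⟨h1, ⟨e⟩⟩ | ⟨h1, ⟨e⟩⟩⟩ <;> rw [Nat.card_congr e.toEquiv]
  · rw [nat_card_alternatingGroup]; simp [Nat.factorial]
  · have := Classical.card_PSL_two' (F := F)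
    rw [Nat.card_eq_fintype_card (α := F)] at this
    simp only [Finset.mem_insert, Finset.mem_singleton] at h1
    rcases h1 with h1 | h1 | h1 | h1 <;> rw [h1] at this <;> norm_num at this <;> simp <;> omega
  · exact Or.inr (Or.inl ⟨CIT.card_psl34 h1, F, _, _, h1, ⟨e⟩⟩)
  · exact Or.inr (Or.inr ⟨CIT.card_sz (m := 1) h1, F, _, _, h1, ⟨e⟩⟩)
  · exact Or.inl (by rw [show Nat.card (Lie.Sz F 8) = _ from CIT.card_sz (m := 2) h1]; simp)

theorem k_seven (h : Nat.card G = 2520) : Nat.card (ConjClasses G) ∉ [10, 11] := fun h1 => by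
  haveI : Fact (Nat.Prime 5) := ⟨by norm_num⟩
  haveI : Fact (Nat.Prime 7) := ⟨by norm_num⟩
  have := a7 _ h1
  rw [solve_of hG h (by norm_num) (by norm_num) (by norm_num) fun s hs => by
    rw [bts_of hG h prime_PR hs, solve_of hG h (by norm_num) (by norm_num) (by norm_num) fun s' hs' =>
      two_of hG h (Or.inr rfl) (by norm_num) (Or.inl rfl) (by norm_num) hs hs']
    rfl] at this
  exact absurd this (by decide)

theorem main {K M : ℕ} (hK : Nat.card (ConjClasses G) = K) (h9 : 9 ≤ K) (hM : 0 < M)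
    (hs : ∀ i < M, search K M i (leaf K) = true) :
    (K, Nat.card G) ∈ [(9, 504), (9, 1092), (10, 7920), (11, 2448)] ∨
    Nat.card G = 2520 ∧ K ∉ [10, 11] ∨
    (K = 10 ∧ ∃ (F : Type) (_ : Field F) (_ : Fintype F), Fintype.card F = 4 ∧
      Nonempty (G ≃* PSL(3, F))) ∨ K = 11 ∧ ∃ (F : Type) (_ : Field F) (_ : Fintype F),
        Fintype.card F = 8 ∧ Nonempty (G ≃* Cfsg.Lie.Sz F 4) := by
  subst hK
  by_cases h5 : ∀ x : G, x ≠ 1 → 5 ≤ cen x
  swap
  · push Not at h5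
    obtain ⟨x, -, hx⟩ := h5
    rcases Cfsg.Agent.S3280.result (not_isCyclic_of_not_comm hG) x (Nat.le_of_lt_succ hx) with
      ⟨⟨e⟩⟩ | ⟨⟨e⟩⟩ | ⟨⟨e⟩⟩ | ⟨F, _, _, h1, ⟨e⟩⟩
    · have := Cfsg.Agent.S4198.result 5 le_rfl
      have := card_conjClasses_congr e
      omega
    · have := k_six e
      omega
    · have h1 : Nat.card G = 2520 := by
        rw [Nat.card_congr e.toEquiv, nat_card_alternatingGroup]; simp [Nat.factorial]
      exact Or.inr (Or.inl ⟨h1, k_seven hG h1⟩)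
    · have := k_psl e (Or.inl h1)
      omega
  obtain ⟨cl, hI, h⟩ := search_of (good hG h5) hM hs
  haveI : Fact (Nat.Prime 19) := ⟨by norm_num⟩
  simp only [leaf, lf, ti, hasc, Bool.or_eq_true, Bool.and_eq_true, decide_eq_true_eq, List.all_eq_true,
    List.any_eq_true, ← Multiset.mem_coe (l := cl.toL), ← hI, beq_iff_eq, bne_iff_ne] at h
  rcases h with ((((⟨h1, h2⟩ | ⟨h1, h2⟩) | ⟨t, h1, h2⟩) | h1) | h1) | ⟨h1, ⟨⟨h2, _, a, h3⟩, _, b, h4⟩, h6⟩
  · have h3 := Cfsg.Agent.S0496.result hG h1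
    obtain ⟨e⟩ := alt_six_of_card (G := G) (by simp at h2; omega)
    have := k_six e
    omega
  · rcases eppo hG h1 with h3 | h3 | h3
    · simp at h2 h3; omega
    · exact Or.inr (Or.inr (Or.inl ⟨by simpa [h3.1] using h2, h3.2⟩))
    · exact Or.inr (Or.inr (Or.inr ⟨by simpa [h3.1] using h2, h3.2⟩))
  · rw [not_app hG hI (kill_tb t h1)] at h2
    exact absurd h2 (by decide)
  · exact Or.inl h1
  · simp only [List.mem_cons, List.not_mem_nil, or_false] at h1
    rcases h1 with h1 | h1 | h1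
    · exact Or.inr (Or.inl ⟨h1, k_seven hG h1⟩)
    · exact absurd (syl_of (p := 19) hG h1 (a := 0) (m := 360) rfl (by decide)) (by decide +kernel)
    · exact absurd (syl_of (p := 19) hG h1 (a := 2) (m := 360) rfl (by decide)) (by decide +kernel)
  · obtain ⟨w, hw, rfl⟩ := mem_its.1 a
    obtain ⟨x, hx, rfl⟩ := mem_its.1 b
    have := ti_dvd h1 (fun y hy => by
      simpa [item] using (h2 _ (item_mem hy.1)).resolve_left (not_not.2 hy.2)) ⟨hw, h3.1⟩ h3.2 ⟨hx, h4.1⟩ h4.2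
    rw [← Multiset.sum_coe, ← Multiset.map_coe, ← hI, cnt_its fun j => j.ρ = 3 ∧ 27 ∣ j.c] at h6
    exact absurd (Nat.mod_eq_zero_of_dvd this) h6

end CF.KCl
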